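import Mathlib

/-! Involutions and elements of order four in `SL(2, F)`, `F` finite of odd order. -/

set_option autoImplicit false
set_option linter.unusedSectionVars false

namespace H3

open Matrix MatrixGroups Polynomial

/-- Abstract properties of `SL(2, q)`, `q` odd, with central involution `z`. -/
structure SLLike {G : Type*} [Group G] (L : Subgroup G) (z : G) : Prop where
  mem : z ∈ L
  ne : z ≠ 1
  sq : z * z = 1
  comm : ∀ x ∈ L, x * z = z * x
  inv : ∀ x ∈ L, x * x = 1 → x = 1 ∨ x = z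
  anti : ∀ x ∈ L, ∀ y ∈ L, x * y = z * (y * x) → x * x = z
  exw : ∀ l ∈ L, l * l = z → ∃ w ∈ L, w * w = z ∧ ∀ e ∈ L, e * l = l * e → w * e * w⁻¹ = e⁻¹
  noncomm : ∃ x ∈ L, ∃ y ∈ L, x * y ≠ y * x

section Field

variable {F : Type*} [Field F] [Fintype F]

theorem two_ne_zero_of_odd (hF : Odd (Fintype.card F)) : (2 : F) ≠ 0 := by
  intro h
  have : ringChar F = 2 := by
    have h1 : ringChar F ∣ 2 := (ringChar.spec F 2).1 (by exact_mod_cast h)
    rcases (Nat.dvd_prime Nat.prime_two).1 h1 with h2 | h2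
    · exact absurd h2 CharP.ringChar_ne_one
    · exact h2
  have h3 := FiniteField.even_card_of_char_two this
  rw [Nat.odd_iff] at hF
  omega

theorem exists_sq_add_sq (hF : Odd (Fintype.card F)) (t : F) : ∃ a b : F, a ^ 2 + b ^ 2 = t := by
  obtain ⟨a, b, h⟩ := FiniteField.exists_root_sum_quadratic (f := X ^ 2) (g := X ^ 2 - C t)
    (degree_X_pow 2) (degree_X_pow_sub_C (by norm_num) _) (Nat.odd_iff.1 hF)
  refine ⟨a, b, ?_⟩
  simp only [eval_pow, eval_X, eval_sub, eval_C] at h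
  linear_combination h

theorem sl_ext_iff (x y : SL(2, F)) :
    x = y ↔ x 0 0 = y 0 0 ∧ x 0 1 = y 0 1 ∧ x 1 0 = y 1 0 ∧ x 1 1 = y 1 1 := by
  constructor
  · rintro rfl; simp
  · rintro ⟨h1, h2, h3, h4⟩
    ext i j
    fin_cases i <;> fin_cases j <;> assumption

theorem sl_det (x : SL(2, F)) : x 0 0 * x 1 1 - x 0 1 * x 1 0 = 1 := by
  rw [← Matrix.det_fin_two]; exact x.2

theorem sl_mul (x y : SL(2, F)) (i j : Fin 2) : (x * y) i j = x i 0 * y 0 j + x i 1 * y 1 j := by
  simp [Matrix.mul_apply, Fin.sum_univ_two]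

theorem sl_neg (x : SL(2, F)) (i j : Fin 2) : (-x) i j = -x i j := rfl

theorem sl_eq_one_iff (x : SL(2, F)) :
    x = 1 ↔ x 0 0 = 1 ∧ x 0 1 = 0 ∧ x 1 0 = 0 ∧ x 1 1 = 1 := by
  rw [sl_ext_iff]; rfl

theorem sl_eq_neg_one_iff (x : SL(2, F)) :
    x = -1 ↔ x 0 0 = -1 ∧ x 0 1 = 0 ∧ x 1 0 = 0 ∧ x 1 1 = -1 := by
  rw [← neg_eq_iff_eq_neg, sl_eq_one_iff]
  simp only [sl_neg, neg_eq_zero, neg_eq_iff_eq_neg (b := (1 : F))]

theorem exists_sl {a b c d : F} (h : a * d - b * c = 1) :
    ∃ w : SL(2, F), w 0 0 = a ∧ w 0 1 = b ∧ w 1 0 = c ∧ w 1 1 = d :=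
  ⟨⟨!![a, b; c, d], by rw [Matrix.det_fin_two_of, h]⟩, rfl, rfl, rfl, rfl⟩

theorem slLike_top (hF : Odd (Fintype.card F)) : SLLike (⊤ : Subgroup SL(2, F)) (-1) := by
  have h2 := two_ne_zero_of_odd hF
  refine ⟨trivial, fun h => h2 ?_, by simp, fun x _ => by simp, fun x _ h => ?_,
    fun x _ y _ h => ?_, fun l _ h => ?_, ?_⟩
  · have := ((sl_eq_one_iff _).1 h).1
    have h' := ((sl_eq_neg_one_iff (-1 : SL(2, F))).1 rfl).1
    linear_combination h' - this
  · obtain ⟨h1, h3, h4, h5⟩ := (sl_eq_one_iff _).1 h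
    have hd := sl_det x
    simp only [sl_mul] at h1 h3 h4 h5
    have ht : x 0 0 + x 1 1 ≠ 0 := fun e => h2 (by linear_combination -h1 - hd + x 0 0 * e)
    have hb : x 0 1 = 0 := (mul_eq_zero.1 (show x 0 1 * (x 0 0 + x 1 1) = 0 by
      linear_combination h3)).resolve_right ht
    have hc : x 1 0 = 0 := (mul_eq_zero.1 (show x 1 0 * (x 0 0 + x 1 1) = 0 by
      linear_combination h4)).resolve_right ht
    rcases mul_eq_zero.1 (show (x 0 0 - 1) * (x 0 0 + 1) = 0 by
      linear_combination h1 - x 1 0 * hb) with e | e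
    · left
      rw [sl_eq_one_iff]
      exact ⟨by linear_combination e, hb, hc, by linear_combination hd - x 1 1 * e + x 1 0 * hb⟩
    · right
      rw [sl_eq_neg_one_iff]
      exact ⟨by linear_combination e, hb, hc, by linear_combination -hd + x 1 1 * e - x 1 0 * hb⟩
  · rw [neg_one_mul] at h
    obtain ⟨h1, h3, h4, h5⟩ := (sl_ext_iff _ _).1 h
    have hd := sl_det x
    have hd' := sl_det y
    simp only [sl_neg, sl_mul] at h1 h3 h4 h5
    have ht : x 0 0 + x 1 1 = 0 := by
      refine (mul_eq_zero.1 (show 2 * (x 0 0 + x 1 1) = 0 from ?_)).resolve_left h2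
      linear_combination y 1 1 * h1 - y 1 0 * h3 - y 0 1 * h4 + y 0 0 * h5 -
        2 * (x 0 0 + x 1 1) * hd'
    rw [sl_eq_neg_one_iff]
    simp only [sl_mul]
    exact ⟨by linear_combination x 0 0 * ht - hd, by linear_combination x 0 1 * ht,
      by linear_combination x 1 0 * ht, by linear_combination x 1 1 * ht - hd⟩
  · obtain ⟨h1, h3, h4, h5⟩ := (sl_eq_neg_one_iff _).1 h
    have hd := sl_det l
    simp only [sl_mul] at h1 h3 h4 h5
    have ht : l 1 1 = -l 0 0 := by
      have : (l 0 0 + l 1 1) ^ 2 = 0 := by linear_combination h1 + h5 + 2 * hd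
      linear_combination pow_eq_zero_iff (two_ne_zero) |>.1 this
    generalize ha : l 0 0 = a at *
    generalize hb : l 0 1 = b at *
    generalize hc : l 1 0 = c at *
    obtain ⟨x, y, z, e1, e2⟩ : ∃ x y z : F, x * x + y * z = -1 ∧ 2 * a * x + b * z + c * y = 0 := by
      by_cases hb0 : b = 0
      · have ha0 : a ≠ 0 := fun e => by simp [e, hb0] at h1
        exact ⟨-c, 2 * a, (-1 - c ^ 2) / (2 * a), by field_simp; ring, by rw [hb0]; ring⟩
      by_cases hc0 : c = 0
      · have ha0 : a ≠ 0 := fun e => by simp [e, hc0] at h1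
        exact ⟨-b, (-1 - b ^ 2) / (2 * a), 2 * a, by field_simp; ring, by rw [hc0]; ring⟩
      obtain ⟨α, β, e⟩ := exists_sq_add_sq hF (b * c)⁻¹
      have e' : b * c * (α ^ 2 + β ^ 2) = 1 := by rw [e]; field_simp
      exact ⟨-β * b * c, b * (α + β * a), c * (β * a - α),
        by linear_combination b * c * β ^ 2 * h1 - e', by ring⟩
    obtain ⟨w, w1, w2, w3, w4⟩ := exists_sl (a := x) (b := y) (c := z) (d := -x)
      (by linear_combination -e1)
    refine ⟨w, trivial, ?_, fun e _ he => ?_⟩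
    · rw [sl_eq_neg_one_iff]
      simp only [sl_mul, w1, w2, w3, w4]
      exact ⟨e1, by ring, by ring, by linear_combination e1⟩
    · obtain ⟨k1, k3, k4, -⟩ := (sl_ext_iff _ _).1 he
      simp only [sl_mul, ha, hb, hc, ht] at k1 k3 k4
      have hT : x * (e 0 0 - e 1 1) + y * e 1 0 + z * e 0 1 = 0 := by
        refine (mul_eq_zero.1 (show 2 * (x * (e 0 0 - e 1 1) + y * e 1 0 + z * e 0 1) = 0
          from ?_)).resolve_left h2
        linear_combination 2 * (x * (e 0 0 - e 1 1) + y * e 1 0 + z * e 0 1) * h1 -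
          (a * (e 0 0 - e 1 1) + 2 * c * e 0 1) * e2 + 2 * c * y * k1 + (a * z - 2 * c * x) * k3 -
          a * y * k4
      rw [mul_inv_eq_iff_eq_mul, eq_inv_mul_iff_mul_eq, sl_ext_iff]
      have hde := sl_det e
      simp only [sl_mul, w1, w2, w3, w4]
      exact ⟨by linear_combination e 0 0 * hT + x * hde, by linear_combination y * hde + e 0 1 * hT,
        by linear_combination z * hde + e 1 0 * hT, by linear_combination e 1 1 * hT - x * hde⟩
  · obtain ⟨x, x1, x2, x3, x4⟩ := exists_sl (F := F) (a := 1) (b := 1) (c := 0) (d := 1) (by ring)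
    obtain ⟨y, y1, y2, y3, y4⟩ := exists_sl (F := F) (a := 1) (b := 0) (c := 1) (d := 1) (by ring)
    refine ⟨x, trivial, y, trivial, fun h => ?_⟩
    have := ((sl_ext_iff _ _).1 h).1
    simp only [sl_mul, x1, x2, x3, y1, y2, y3] at this
    simp at this

end Field

theorem SLLike.map {G H : Type*} [Group G] [Group H] {L : Subgroup G} {z : G} (h : SLLike L z)
    (f : G →* H) (hf : Function.Injective f) : SLLike (L.map f) (f z) where
  mem := Subgroup.mem_map_of_mem f h.mem
  ne := fun e => h.ne (hf (by rw [e, map_one]))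
  sq := by rw [← map_mul, h.sq, map_one]
  comm := by rintro _ ⟨x, hx, rfl⟩; rw [← map_mul, ← map_mul, h.comm x hx]
  inv := by
    rintro _ ⟨x, hx, rfl⟩ e
    rcases h.inv x hx (hf (by rw [map_mul, e, map_one])) with rfl | rfl
    · exact Or.inl (map_one f)
    · exact Or.inr rfl
  anti := by
    rintro _ ⟨x, hx, rfl⟩ _ ⟨y, hy, rfl⟩ e
    rw [← map_mul, h.anti x hx y hy (hf (by simpa only [map_mul] using e))]
  exw := by
    rintro _ ⟨l, hl, rfl⟩ e
    obtain ⟨w, hw, h1, h2⟩ := h.exw l hl (hf (by rwa [map_mul]))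
    refine ⟨f w, Subgroup.mem_map_of_mem f hw, by rw [← map_mul, h1], ?_⟩
    rintro _ ⟨x, hx, rfl⟩ e'
    rw [← map_inv, ← map_inv, ← map_mul, ← map_mul, h2 x hx (hf (by simpa only [map_mul] using e'))]
  noncomm := by
    obtain ⟨x, hx, y, hy, e⟩ := h.noncomm
    exact ⟨f x, Subgroup.mem_map_of_mem f hx, f y, Subgroup.mem_map_of_mem f hy,
      fun e' => e (hf (by simpa only [map_mul] using e'))⟩

theorem exists_slLike {G F : Type*} [Group G] [Field F] [Fintype F] (hF : Odd (Fintype.card F))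
    {L : Subgroup G} (e : L ≃* SL(2, F)) : ∃ z, SLLike L z := by
  have := (slLike_top hF).map (L.subtype.comp e.symm.toMonoidHom)
    (Subtype.val_injective.comp e.symm.injective)
  rw [← Subgroup.map_map, Subgroup.map_top_of_surjective _ e.symm.surjective,
    ← MonoidHom.range_eq_map, Subgroup.range_subtype] at this
  exact ⟨_, this⟩

end H3
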